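import Groth.Agent.DepthTwoLib.FourTerm
import Groth.Prelude.Def_FlatCA
import Mathlib

/-!
Flatness at a prime passes to base changes.
-/

set_option autoImplicit false
set_option linter.style.haveILetI false
universe u
open TensorProduct

namespace Groth.Agent.SmallH9

theorem flatAt_baseChange {R S R' S' : Type u} [CommRing R] [CommRing S] [CommRing R'] [CommRing S']
    [Algebra R S] [Algebra R R'] [Algebra S S'] [Algebra R' S'] [Algebra R S'] [IsScalarTower R S S']
    [IsScalarTower R R' S'] [Algebra.IsPushout R S R' S']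
    {M M' : Type u} [AddCommGroup M] [Module S M] [Module R M] [IsScalarTower R S M]
    [AddCommGroup M'] [Module S' M'] [Module R' M'] [IsScalarTower R' S' M'] [Module S M'] [IsScalarTower S S' M']
    (f : M →ₗ[S] M') (hf : IsBaseChange S' f) (p : Ideal S) [p.IsPrime] (q : Ideal S') [q.IsPrime]
    (hpq : p = q.comap (algebraMap S S')) (h : FlatCA.FlatAt R p M) : FlatCA.FlatAt R' q M' := by
  haveI : Algebra.IsPushout R R' S S' := Algebra.IsPushout.symm inferInstance
  let Mp := LocalizedModule p.primeCompl M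
  haveI : Module.Flat R Mp := h
  let N1 := S' ⊗[S] Mp
  haveI : Module.Flat R' N1 :=
    Module.Flat.of_linearEquiv (Algebra.IsPushout.cancelBaseChange R R' S S' Mp)
  haveI : Module.Flat R' (LocalizedModule q.primeCompl N1) :=
    DepthTwoLib.flat_localizedModule N1 q.primeCompl
  haveI : q.LiesOver p := ⟨hpq⟩
  let A := Localization.AtPrime p
  let B := Localization.AtPrime q
  letI : Algebra A B := (Localization.localRingHom p q (algebraMap S S') hpq).toAlgebra
  haveI : IsScalarTower S A B := IsScalarTower.of_algebraMap_eq fun x => by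
    rw [RingHom.algebraMap_toAlgebra, Localization.localRingHom_to_map, ← IsScalarTower.algebraMap_apply]
  let e1 : LocalizedModule q.primeCompl N1 ≃ₗ[B] B ⊗[S'] N1 :=
    (IsLocalizedModule.isBaseChange q.primeCompl B (LocalizedModule.mkLinearMap q.primeCompl N1)).equiv.symm
  let e2 : B ⊗[S'] N1 ≃ₗ[B] B ⊗[S] Mp := AlgebraTensorModule.cancelBaseChange S S' B B Mp
  haveI : CompatibleSMul S A B Mp :=
    IsLocalization.tensorProduct_compatibleSMul p.primeCompl A B Mp
  let e3 : B ⊗[A] Mp ≃ₗ[B] B ⊗[S] Mp := TensorProduct.equivOfCompatibleSMul S A B B Mp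
  let e4 : B ⊗[A] Mp ≃ₗ[B] B ⊗[A] (A ⊗[S] M) := AlgebraTensorModule.congr (LinearEquiv.refl B B)
    (IsLocalizedModule.isBaseChange p.primeCompl A (LocalizedModule.mkLinearMap p.primeCompl M)).equiv.symm
  let e5 : B ⊗[A] (A ⊗[S] M) ≃ₗ[B] B ⊗[S] M := AlgebraTensorModule.cancelBaseChange S A B B M
  let e6 : B ⊗[S] M ≃ₗ[B] LocalizedModule q.primeCompl M' :=
    (hf.comp (IsLocalizedModule.isBaseChange q.primeCompl B (LocalizedModule.mkLinearMap q.primeCompl M'))).equiv
  let e : LocalizedModule q.primeCompl N1 ≃ₗ[B] LocalizedModule q.primeCompl M' :=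
    e1 ≪≫ₗ e2 ≪≫ₗ e3.symm ≪≫ₗ e4 ≪≫ₗ e5 ≪≫ₗ e6
  exact Module.Flat.of_linearEquiv ((e.restrictScalars S').restrictScalars R').symm

end Groth.Agent.SmallH9
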