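import Groth.Agent.FittLib.Props
import Mathlib

/-!
The Fitting ideals of a cokernel and of the cokernel of the dual map.
-/

set_option autoImplicit false
universe u v w
open Matrix

namespace Groth.Agent.SmallH9
open FittLib

variable {R : Type u} [CommRing R] {ι : Type v} {κ : Type w}

theorem J_transpose_le (a : ι → κ → R) (l : ℕ) :
    J (Set.range fun j => fun i => a i j) l ≤ J (Set.range fun i => a i) l := by
  refine J_le_iff.mpr fun z e hz => ?_
  choose g hg using hz
  have : minor z e = minor (fun b => a (e b)) g := by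
    rw [FittLib.minor, FittLib.minor, ← Matrix.det_transpose]
    congr 1
    ext x y
    simp [← hg]
  rw [this]
  exact minor_mem g fun b => ⟨e b, rfl⟩

theorem J_transpose (a : ι → κ → R) (l : ℕ) :
    J (Set.range fun j => fun i => a i j) l = J (Set.range fun i => a i) l :=
  le_antisymm (J_transpose_le a l) (J_transpose_le (fun j i => a i j) l)

theorem J_range_eq_bot {m l : ℕ} (c : Fin m → ι → R) (h : m < l) : J (Set.range c) l = ⊥ := by
  refine le_antisymm (J_le_iff.mpr fun z e hz => ?_) bot_le
  choose g hg using hz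
  have hni : ¬ Function.Injective g := fun hi => by
    have := Fintype.card_le_of_injective g hi
    simp at this; omega
  obtain ⟨a, b, hab, hne⟩ := Function.not_injective_iff.mp hni
  rw [Ideal.mem_bot]
  exact Matrix.det_zero_of_column_eq hne fun i => by
    show z a (e i) = z b (e i)
    rw [← hg a, ← hg b, hab]

theorem fitting_coker_dual (m n : ℕ) (σ : (Fin m → R) →ₗ[R] (Fin n → R)) (hσ : Function.Injective σ) :
    (∀ j : ℕ, Fitt.ideal R ((Fin n → R) ⧸ LinearMap.range σ) (n - m + j) =
        Fitt.ideal R (Module.Dual R (Fin m → R) ⧸ LinearMap.range σ.dualMap) j) ∧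
      ∀ i : ℕ, i < n - m → Fitt.ideal R ((Fin n → R) ⧸ LinearMap.range σ) i = ⊥ := by
  classical
  rcases subsingleton_or_nontrivial R with hR | hR
  · exact ⟨fun j => Subsingleton.elim _ _, fun i _ => Subsingleton.elim _ _⟩
  have hmn : m ≤ n := le_of_fin_injective R σ hσ
  set a : Fin n → Fin m → R := fun i j => σ (Pi.single j 1) i with ha
  have hcols : Submodule.span R (Set.range fun j => fun i => a i j) = LinearMap.range σ := by
    rw [LinearMap.range_eq_map, ← (Pi.basisFun R (Fin m)).span_eq, Submodule.map_span, ← Set.range_comp]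
    congr 2
    funext j
    simp [ha]
  let x : Fin n → (Fin n → R) ⧸ LinearMap.range σ := fun i => Submodule.Quotient.mk (Pi.single i 1)
  have hx : Submodule.span R (Set.range x) = ⊤ := by
    have h := congrArg (Submodule.map (LinearMap.range σ).mkQ) (Pi.basisFun R (Fin n)).span_eq
    rw [Submodule.map_span, ← Set.range_comp, Submodule.map_top, Submodule.range_mkQ] at h
    rw [← h]; congr 2; funext i; simp [x]
  have hrel : FittLib.rel (R := R) x = (LinearMap.range σ : Set (Fin n → R)) := by
    ext z
    show ∑ i, z i • x i = 0 ↔ _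
    simp only [x, ← Submodule.mkQ_apply, ← map_smul, ← map_sum]
    rw [Submodule.mkQ_apply, Submodule.Quotient.mk_eq_zero, ← pi_eq_sum_univ' z]
    rfl
  have hM : ∀ k, Fitt.ideal R ((Fin n → R) ⧸ LinearMap.range σ) k =
      J (Set.range fun j => fun i => a i j) (n - k) := fun k => by
    rw [ideal_eq x hx, hrel, ← hcols, J_span]
  let y : Fin m → Module.Dual R (Fin m → R) ⧸ LinearMap.range σ.dualMap := fun j =>
    Submodule.Quotient.mk (LinearMap.proj j)
  have hy : Submodule.span R (Set.range y) = ⊤ := by
    rw [eq_top_iff]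
    rintro q -
    obtain ⟨φ, rfl⟩ := Submodule.Quotient.mk_surjective _ q
    have hφ : φ = ∑ j, φ (Pi.single j 1) • LinearMap.proj j := by
      refine LinearMap.pi_ext' fun j => LinearMap.ext_ring ?_
      simp [Pi.single_apply]
    rw [hφ, ← Submodule.mkQ_apply, map_sum]
    refine Submodule.sum_mem _ fun j _ => ?_
    rw [map_smul]
    exact Submodule.smul_mem _ _ (Submodule.subset_span ⟨j, rfl⟩)
  have hrel' : FittLib.rel (R := R) y = (Submodule.span R (Set.range a) : Set (Fin m → R)) := by
    ext z
    show ∑ i, z i • y i = 0 ↔ _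
    simp only [y, ← Submodule.mkQ_apply, ← map_smul, ← map_sum]
    rw [Submodule.mkQ_apply, Submodule.Quotient.mk_eq_zero, SetLike.mem_coe,
      Submodule.mem_span_range_iff_exists_fun]
    constructor
    · rintro ⟨φ, hφ⟩
      refine ⟨fun i => φ (Pi.single i 1), funext fun j => ?_⟩
      have h := LinearMap.congr_fun hφ (Pi.single j 1)
      simp only [LinearMap.dualMap_apply, LinearMap.sum_apply, LinearMap.smul_apply,
        LinearMap.proj_apply, Pi.single_apply, smul_eq_mul, mul_ite, mul_one, mul_zero,
        Finset.sum_ite_eq', Finset.mem_univ, if_true] at h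
      rw [← h, pi_eq_sum_univ' (σ (Pi.single j 1)), map_sum]
      simp [ha, Finset.sum_apply, mul_comm]
    · rintro ⟨c, rfl⟩
      refine ⟨∑ i, c i • LinearMap.proj i, LinearMap.pi_ext' fun j => LinearMap.ext_ring ?_⟩
      simp [ha, Finset.sum_apply, Pi.single_apply]
  have hK : ∀ k, Fitt.ideal R (Module.Dual R (Fin m → R) ⧸ LinearMap.range σ.dualMap) k =
      J (Set.range a) (m - k) := fun k => by
    rw [ideal_eq y hy, hrel', J_span]
  refine ⟨fun j => ?_, fun i hi => ?_⟩
  · rw [hM, hK, J_transpose, show n - (n - m + j) = m - j by omega]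
  · rw [hM]
    exact J_range_eq_bot _ (by omega)

end Groth.Agent.SmallH9
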