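import Mathlib

/-!
Automorphisms of a short Weierstrass equation away from 2 and 3.
-/

set_option autoImplicit false
universe u
open WeierstrassCurve

namespace Groth.Agent.SmallH9

variable {k : Type u} [Field k] (W : WeierstrassCurve k) [W.IsShortNF]

theorem mem_stabilizer_iff (h2 : (2 : k) ≠ 0) (h3 : (3 : k) ≠ 0) (g : VariableChange k) :
    g ∈ MulAction.stabilizer (VariableChange k) W ↔
      g.r = 0 ∧ g.s = 0 ∧ g.t = 0 ∧ (W.a₄ = 0 ∨ g.u ^ 4 = 1) ∧ (W.a₆ = 0 ∨ g.u ^ 6 = 1) := by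
  rw [MulAction.mem_stabilizer_iff, WeierstrassCurve.ext_iff, variableChange_a₁, variableChange_a₂,
    variableChange_a₃, variableChange_a₄, variableChange_a₆, a₁_of_isShortNF, a₂_of_isShortNF,
    a₃_of_isShortNF]
  have hu : (↑g.u⁻¹ : k) ≠ 0 := Units.ne_zero _
  have key : ∀ (n : ℕ) (a : k), (↑g.u⁻¹ : k) ^ n * a = a ↔ (a = 0 ∨ g.u ^ n = 1) := fun n a => by
    constructor
    · intro h
      by_cases ha : a = 0
      · exact Or.inl ha
      refine Or.inr (Units.ext ?_)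
      have h1 : (↑g.u⁻¹ : k) ^ n = 1 := by simpa [ha] using (mul_left_eq_self₀.mp h)
      have := congrArg (fun x => (↑g.u : k) ^ n * x) h1
      simp only [← mul_pow, Units.mul_inv, one_pow, mul_one] at this
      simpa using this.symm
    · rintro (rfl | h)
      · simp
      · rw [← Units.val_pow_eq_pow_val, inv_pow, h, inv_one, Units.val_one, one_mul]
  constructor
  · rintro ⟨e1, e2, e3, e4, e6⟩
    have hs : g.s = 0 := by simpa [hu, h2] using e1
    have hr : g.r = 0 := by simpa [hu, h3, hs] using e2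
    have ht : g.t = 0 := by simpa [hu, h2, hr] using e3
    exact ⟨hr, hs, ht, (key 4 _).mp (by simpa [hr, hs, ht] using e4),
      (key 6 _).mp (by simpa [hr, hs, ht] using e6)⟩
  · rintro ⟨hr, hs, ht, h4, h6⟩
    refine ⟨by simp [hs], by simp [hr, hs], by simp [ht, hr], ?_, ?_⟩
    · simpa [hr, hs, ht] using (key 4 _).mpr h4
    · simpa [hr, hs, ht] using (key 6 _).mpr h6

theorem stabilizer_structure [IsAlgClosed k] (h2 : (2 : k) ≠ 0) (h3 : (3 : k) ≠ 0) (hΔ : W.Δ ≠ 0) :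
    IsCyclic ↥(MulAction.stabilizer (VariableChange k) W) ∧
      (W.a₄ = 0 → Nat.card ↥(MulAction.stabilizer (VariableChange k) W) = 6) ∧
      (W.a₆ = 0 → Nat.card ↥(MulAction.stabilizer (VariableChange k) W) = 4) ∧
      (W.a₄ ≠ 0 → W.a₆ ≠ 0 → Nat.card ↥(MulAction.stabilizer (VariableChange k) W) = 2) := by
  let G := MulAction.stabilizer (VariableChange k) W
  let ψ : ↥G →* kˣ :=
    { toFun := fun g => (g : VariableChange k).u
      map_one' := rfl
      map_mul' := fun a b => rfl }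
  have hinj : Function.Injective ψ := fun a b h => by
    obtain ⟨a1, a2, a3, -, -⟩ := (mem_stabilizer_iff W h2 h3 _).mp a.2
    obtain ⟨b1, b2, b3, -, -⟩ := (mem_stabilizer_iff W h2 h3 _).mp b.2
    exact Subtype.ext (VariableChange.ext h (a1.trans b1.symm) (a2.trans b2.symm) (a3.trans b3.symm))
  have hrange : ∀ v : kˣ, v ∈ ψ.range ↔ (W.a₄ = 0 ∨ v ^ 4 = 1) ∧ (W.a₆ = 0 ∨ v ^ 6 = 1) := fun v => by
    constructor
    · rintro ⟨g, rfl⟩
      obtain ⟨-, -, -, h4, h6⟩ := (mem_stabilizer_iff W h2 h3 _).mp g.2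
      exact ⟨h4, h6⟩
    · rintro ⟨h4, h6⟩
      exact ⟨⟨⟨v, 0, 0, 0⟩, (mem_stabilizer_iff W h2 h3 _).mpr ⟨rfl, rfl, rfl, h4, h6⟩⟩, rfl⟩
  have h46 : ¬(W.a₄ = 0 ∧ W.a₆ = 0) := fun h => hΔ (by rw [Δ_of_isShortNF]; simp [h.1, h.2])
  have h6' : (6 : k) ≠ 0 := by rw [show (6 : k) = 2 * 3 by norm_num]; exact mul_ne_zero h2 h3
  have h4' : (4 : k) ≠ 0 := by rw [show (4 : k) = 2 * 2 by norm_num]; exact mul_ne_zero h2 h2
  have hcard : ∀ (n : ℕ) [NeZero (n : k)], ψ.range = rootsOfUnity n k → Nat.card ↥G = n := by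
    intro n _ h
    haveI : NeZero n := .of_neZero_natCast k
    rw [Nat.card_congr (MonoidHom.ofInjective hinj).toEquiv, h]
    exact HasEnoughRootsOfUnity.natCard_rootsOfUnity k n
  have h4ne : ∀ v : kˣ, W.a₄ = 0 → ((W.a₄ = 0 ∨ v ^ 4 = 1) ∧ (W.a₆ = 0 ∨ v ^ 6 = 1) ↔ v ^ 6 = 1) :=
    fun v h => ⟨fun H => H.2.resolve_left fun h' => h46 ⟨h, h'⟩, fun H => ⟨Or.inl h, Or.inr H⟩⟩
  refine ⟨?_, fun h => ?_, fun h => ?_, fun h h' => ?_⟩
  · have hfin : Finite ↥G := by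
      refine Finite.of_injective (fun g => (⟨ψ g, ?_⟩ : rootsOfUnity 12 k)) fun a b hab =>
        hinj (congrArg Subtype.val hab)
      obtain ⟨h4, h6⟩ := (hrange _).mp ⟨g, rfl⟩
      rw [mem_rootsOfUnity]
      rcases h4 with h4 | h4
      · rcases h6 with h6 | h6
        · exact absurd ⟨h4, h6⟩ h46
        · rw [show 12 = 6 * 2 by rfl, pow_mul, h6, one_pow]
      · rw [show 12 = 4 * 3 by rfl, pow_mul, h4, one_pow]
    exact isCyclic_of_subgroup_isDomain ((Units.coeHom k).comp ψ)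
      (fun a b h => hinj (Units.ext h))
  · haveI : NeZero ((6 : ℕ) : k) := ⟨by exact_mod_cast h6'⟩
    refine hcard 6 (Subgroup.ext fun v => ?_)
    rw [hrange, h4ne v h, mem_rootsOfUnity]
  · haveI : NeZero ((4 : ℕ) : k) := ⟨by exact_mod_cast h4'⟩
    refine hcard 4 (Subgroup.ext fun v => ?_)
    rw [hrange, mem_rootsOfUnity]
    exact ⟨fun H => H.1.resolve_left fun h' => h46 ⟨h', h⟩, fun H => ⟨Or.inr H, Or.inl h⟩⟩
  · haveI : NeZero ((2 : ℕ) : k) := ⟨by exact_mod_cast h2⟩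
    refine hcard 2 (Subgroup.ext fun v => ?_)
    rw [hrange, mem_rootsOfUnity]
    simp only [h, h', false_or]
    refine ⟨fun ⟨a, b⟩ => ?_, fun a => ⟨?_, ?_⟩⟩
    · rwa [show (6 : ℕ) = 4 + 2 by rfl, pow_add, a, one_mul] at b
    · rw [show (4 : ℕ) = 2 * 2 by rfl, pow_mul, a, one_pow]
    · rw [show (6 : ℕ) = 2 * 3 by rfl, pow_mul, a, one_pow]

end Groth.Agent.SmallH9
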