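import Groth.Prelude.Def_W4c6katofiltaWFil
import Mathlib

/-!
Logarithmic one-forms along part of a coordinate system are free.
-/

set_option autoImplicit false
universe u
open KaehlerDifferential

namespace Groth.Agent.SmallH9

theorem exists_basis_logForms1
    {A B : Type u} [CommRing A] [IsDomain A] [CommRing B] [Algebra A B] {r N : ℕ}
    (hr : r ≤ N) (x : Fin N → A) [IsLocalization.Away (∏ i : Fin r, x (Fin.castLE hr i)) B]
    (u : Fin r → Bˣ) (hu : ∀ i, (u i : B) = algebraMap A B (x (Fin.castLE hr i)))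
    {ι : Type u} (b : Module.Basis (Fin N ⊕ ι) A (Ω[A⁄ℤ])) (hb : ∀ i, b (Sum.inl i) = D ℤ A (x i)) :
    ∃ e : Module.Basis (Fin N ⊕ ι) A
        (W4c6katofilta.logForms1 (fun i : Fin r => x (Fin.castLE hr i)) u),
      (∀ i : Fin r, (e (Sum.inl (Fin.castLE hr i)) : Ω[B⁄ℤ]) =
          ((u i)⁻¹ : Bˣ) • KaehlerDifferential.map ℤ ℤ A B (D ℤ A (x (Fin.castLE hr i)))) ∧
      (∀ i : Fin N, r ≤ (i : ℕ) →
          (e (Sum.inl i) : Ω[B⁄ℤ]) = KaehlerDifferential.map ℤ ℤ A B (D ℤ A (x i))) ∧
      (∀ k : ι, (e (Sum.inr k) : Ω[B⁄ℤ]) = KaehlerDifferential.map ℤ ℤ A B (b (Sum.inr k))) := by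
  classical
  set f := KaehlerDifferential.map ℤ ℤ A B with hf
  have hx0 : ∀ i, x i ≠ 0 := fun i h => b.ne_zero (Sum.inl i) (by rw [hb, h, map_zero])
  set S := Submonoid.powers (∏ i : Fin r, x (Fin.castLE hr i)) with hS
  haveI : IsLocalization S B := ‹IsLocalization.Away _ B›
  haveI : IsLocalizedModule S f := KaehlerDifferential.isLocalizedModule_map ℤ A B S
  have hSnz : ∀ s : S, (s : A) ≠ 0 := by
    rintro ⟨_, n, rfl⟩
    exact pow_ne_zero _ (Finset.prod_ne_zero_iff.mpr fun i _ => hx0 _)
  have hinj : Function.Injective f := by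
    rw [← LinearMap.ker_eq_bot]
    refine LinearMap.ker_eq_bot'.mpr fun m hm => ?_
    obtain ⟨c, hc⟩ := (IsLocalizedModule.eq_zero_iff S f).mp hm
    refine b.repr.injective (Finsupp.ext fun k => ?_)
    have h1 := congrArg (fun z => b.repr z k) hc
    simp only [map_smul, Submonoid.smul_def, Finsupp.smul_apply, smul_eq_mul, map_zero,
      Finsupp.zero_apply, mul_eq_zero] at h1
    simpa using h1.resolve_left (hSnz c)
  -- the scaling factors
  let w : Fin N ⊕ ι → Bˣ := Sum.elim (fun i => if h : i.val < r then (u ⟨i.val, h⟩)⁻¹ else 1) fun _ => 1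
  let a : Fin N ⊕ ι → A := Sum.elim (fun i => if i.val < r then x i else 1) fun _ => 1
  have hwa : ∀ k, algebraMap A B (a k) = ((w k)⁻¹ : Bˣ).val := by
    rintro (i | k)
    · simp only [a, w, Sum.elim_inl]
      split_ifs with h
      · rw [inv_inv, hu]; congr
      · simp
    · simp [a, w]
  let v : Fin N ⊕ ι → Ω[B⁄ℤ] := fun k => (w k : B) • f (b k)
  have hfv : ∀ k, f (b k) = a k • v k := fun k => by
    rw [← algebraMap_smul B (a k) (v k), hwa, smul_smul, Units.inv_mul, one_smul]
  have ha0 : ∀ k, a k ≠ 0 := by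
    rintro (i | k)
    · simp only [a, Sum.elim_inl]; split_ifs
      · exact hx0 i
      · exact one_ne_zero
    · simp [a]
  have hli : LinearIndependent A v := by
    rw [linearIndependent_iff']
    intro s c hc k hk
    have hfi : LinearIndependent A fun k => f (b k) := b.linearIndependent.map' f (LinearMap.ker_eq_bot.mpr hinj)
    set P := ∏ j ∈ s, a j
    have h1 : ∀ j ∈ s, P • c j • v j = (c j * ∏ l ∈ s.erase j, a l) • f (b j) := fun j hj => by
      rw [hfv, smul_smul, smul_smul]; congr 1
      show (∏ j ∈ s, a j) * c j = _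
      rw [← Finset.mul_prod_erase _ _ hj]; ring
    have h2 := linearIndependent_iff'.mp hfi s (fun j => c j * ∏ l ∈ s.erase j, a l)
      (by rw [← Finset.sum_congr rfl h1, ← Finset.smul_sum, hc, smul_zero]) k hk
    exact (mul_eq_zero.mp h2).resolve_right (Finset.prod_ne_zero_iff.mpr fun l _ => ha0 l)
  have hspan : Submodule.span A (Set.range v) =
      W4c6katofilta.logForms1 (fun i : Fin r => x (Fin.castLE hr i)) u := by
    refine le_antisymm (Submodule.span_le.mpr ?_) (Submodule.span_le.mpr ?_)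
    · rintro _ ⟨i | k, rfl⟩
      · by_cases h : i.val < r
        · refine Submodule.subset_span (Or.inr ⟨⟨i.val, h⟩, ?_⟩)
          simp only [v, w, Sum.elim_inl, dif_pos h, hb]
          rfl
        · refine Submodule.subset_span (Or.inl ⟨b (Sum.inl i), ?_⟩)
          simp [v, w, h, hf]
      · refine Submodule.subset_span (Or.inl ⟨b (Sum.inr k), ?_⟩)
        simp [v, w, hf]
    · rintro _ (⟨z, rfl⟩ | ⟨i, rfl⟩)
      · have hz : z ∈ Submodule.span A (Set.range b) := b.span_eq ▸ Submodule.mem_top
        have hle : Submodule.span A (Set.range b) ≤ (Submodule.span A (Set.range v)).comap f :=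
          Submodule.span_le.mpr (by
            rintro _ ⟨k, rfl⟩
            rw [SetLike.mem_coe, Submodule.mem_comap]
            rw [hfv]; exact Submodule.smul_mem _ _ (Submodule.subset_span ⟨k, rfl⟩))
        exact hle hz
      · refine Submodule.subset_span ⟨Sum.inl (Fin.castLE hr i), ?_⟩
        simp only [v, w, Sum.elim_inl, dif_pos (show (Fin.castLE hr i).val < r from i.2), hb]
        rfl
  refine ⟨(Module.Basis.span hli).map (LinearEquiv.ofEq _ _ hspan), fun i => ?_, fun i h => ?_, fun k => ?_⟩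
  · simp only [Module.Basis.map_apply, LinearEquiv.coe_ofEq_apply, Module.Basis.coe_span_apply, v, w,
      Sum.elim_inl, dif_pos (show (Fin.castLE hr i).val < r from i.2), hb]
    rfl
  · simp [Module.Basis.map_apply, Module.Basis.coe_span_apply, v, w, not_lt.mpr h, hb, hf]
  · simp [Module.Basis.map_apply, Module.Basis.coe_span_apply, v, w, hf]

end Groth.Agent.SmallH9
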