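import Mathlib

/-!
Base change of torsion modules along a map which is bijective modulo the ideal.
-/

set_option autoImplicit false
set_option linter.style.haveILetI false
universe u
open TensorProduct

namespace Groth.Agent.SmallH9

variable {R S : Type u} [CommRing R] [CommRing S] [Algebra R S] [Module.Flat R S] (I : Ideal R)
  (hq : Function.Bijective (algebraMap (R ⧸ I) (S ⧸ I.map (algebraMap R S))))

/-- the unit `N → S ⊗ N` -/
noncomputable def one' (R S : Type u) [CommRing R] [CommRing S] [Algebra R S] (N : Type u) [AddCommGroup N] [Module R N] :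
    N →ₗ[R] S ⊗[R] N := TensorProduct.mk R S N 1

omit [Module.Flat R S] in
theorem one'_natural {N P : Type u} [AddCommGroup N] [Module R N] [AddCommGroup P] [Module R P]
    (g : N →ₗ[R] P) (y : N) : g.lTensor S (one' R S N y) = one' R S P (g y) := rfl

include hq in
omit [Module.Flat R S] in
theorem bijective_of_killed (N : Type u) [AddCommGroup N] [Module R N]
    (hN : ∀ a ∈ I, ∀ y : N, a • y = 0) : Function.Bijective (one' R S N) := by
  constructor
  · -- a retraction through `R ⧸ I`
    have htor : Module.IsTorsionBySet R N (I : Set R) := fun y a => hN a a.2 y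
    letI : Module (R ⧸ I) N := htor.module
    haveI : IsScalarTower R (R ⧸ I) N := htor.isScalarTower
    let e := RingEquiv.ofBijective _ hq
    let φ : S →+* R ⧸ I := e.symm.toRingHom.comp (Ideal.Quotient.mk _)
    have hφ : ∀ r : R, φ (algebraMap R S r) = Ideal.Quotient.mk I r := fun r => by
      show e.symm _ = _
      rw [RingEquiv.symm_apply_eq]
      rfl
    let b : S →ₗ[R] N →ₗ[R] N :=
      LinearMap.mk₂ R (fun s y => φ s • y) (fun s s' y => by rw [map_add, add_smul])
        (fun r s y => by
          rw [Algebra.smul_def, map_mul, hφ, mul_smul, ← Ideal.Quotient.algebraMap_eq, algebraMap_smul])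
        (fun s y y' => smul_add _ _ _) (fun r s y => by rw [smul_comm])
    refine Function.LeftInverse.injective (g := TensorProduct.lift b) fun y => ?_
    show φ 1 • y = y
    rw [map_one, one_smul]
  · intro z
    induction z using TensorProduct.induction_on with
    | zero => exact ⟨0, map_zero _⟩
    | tmul s y =>
      obtain ⟨r, hr⟩ := hq.2 (Ideal.Quotient.mk _ s)
      obtain ⟨r, rfl⟩ := Ideal.Quotient.mk_surjective r
      refine ⟨r • y, ?_⟩
      have hd : algebraMap R S r - s ∈ I.map (algebraMap R S) := Ideal.Quotient.eq.mp hr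
      have h0 : ∀ t ∈ I.map (algebraMap R S), ∀ y : N, t ⊗ₜ[R] y = 0 := by
        intro t ht
        induction ht using Submodule.span_induction with
        | mem t ht =>
          obtain ⟨a, ha, rfl⟩ := ht
          intro y
          rw [Algebra.algebraMap_eq_smul_one, TensorProduct.smul_tmul, hN a ha, TensorProduct.tmul_zero]
        | zero => intro y; exact TensorProduct.zero_tmul _ _
        | add a b _ _ ha hb => intro y; rw [TensorProduct.add_tmul, ha, hb, add_zero]
        | smul c a _ ha =>
          intro y
          rw [← TensorProduct.smul_tmul' c a y, ha, smul_zero]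
      have h := h0 _ hd y
      rw [TensorProduct.sub_tmul, sub_eq_zero, Algebra.algebraMap_eq_smul_one, TensorProduct.smul_tmul] at h
      exact h
    | add a b ha hb =>
      obtain ⟨x, hx⟩ := ha
      obtain ⟨y, hy⟩ := hb
      exact ⟨x + y, by rw [map_add, hx, hy]⟩

include hq in
theorem bijective_of_pow_killed : ∀ (n : ℕ) (N : Type u) [AddCommGroup N] [Module R N],
    (∀ a ∈ I ^ n, ∀ y : N, a • y = 0) → Function.Bijective (one' R S N) := by
  intro n
  induction n with
  | zero =>
    intro N _ _ hN
    have : Subsingleton N := ⟨fun a b => by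
      rw [← one_smul R a, ← one_smul R b, hN 1 (by simp), hN 1 (by simp)]⟩
    refine ⟨fun a b _ => Subsingleton.elim a b, fun z => ⟨0, ?_⟩⟩
    induction z using TensorProduct.induction_on with
    | zero => exact map_zero _
    | tmul s y => rw [map_zero, Subsingleton.elim y 0, TensorProduct.tmul_zero]
    | add a b ha hb => rw [map_zero] at ha hb ⊢; rw [← ha, ← hb, add_zero]
  | succ n ih =>
    intro N _ _ hN
    set P : Submodule R N := I • ⊤
    have hP : Function.Bijective (one' R S P) := ih P fun a ha y => Subtype.ext (by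
      show a • (y : N) = 0
      refine Submodule.smul_induction_on (p := fun z => a • z = 0) y.2 (fun r hr m _ => ?_)
        (fun z w hz hw => by rw [smul_add, hz, hw, add_zero])
      rw [smul_smul]; exact hN _ (by rw [pow_succ]; exact Ideal.mul_mem_mul ha hr) m)
    have hQ : Function.Bijective (one' R S (N ⧸ P)) := bijective_of_killed I hq _ fun a ha y => by
      obtain ⟨y, rfl⟩ := Submodule.Quotient.mk_surjective _ y
      rw [← Submodule.Quotient.mk_smul, Submodule.Quotient.mk_eq_zero]
      exact Submodule.smul_mem_smul ha Submodule.mem_top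
    refine ⟨?_, fun z => ?_⟩
    · rw [← LinearMap.ker_eq_bot]
      refine LinearMap.ker_eq_bot'.mpr fun y hy => ?_
      have h1 : P.mkQ y = 0 := hQ.1 (by rw [← one'_natural, hy, map_zero, map_zero])
      rw [Submodule.mkQ_apply, Submodule.Quotient.mk_eq_zero] at h1
      have h2 : one' R S P ⟨y, h1⟩ = 0 := Module.Flat.lTensor_preserves_injective_linearMap (M := S)
        P.subtype P.subtype_injective (by rw [one'_natural, map_zero]; exact hy)
      exact congrArg Subtype.val (hP.1 (h2.trans (map_zero _).symm))
    · obtain ⟨q, hq'⟩ := hQ.2 (P.mkQ.lTensor S z)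
      obtain ⟨y, rfl⟩ := P.mkQ_surjective q
      rw [← one'_natural, eq_comm, ← sub_eq_zero, ← map_sub] at hq'
      obtain ⟨w, hw⟩ := (lTensor_exact S (LinearMap.exact_subtype_mkQ P) P.mkQ_surjective _).mp hq'
      obtain ⟨p, rfl⟩ := hP.2 w
      refine ⟨y + p, ?_⟩
      rw [map_add, ← sub_add_cancel z (one' R S N y), ← hw, one'_natural, add_comm]
      rfl

/-- the elements killed by an ideal -/
def killed {N : Type u} [AddCommGroup N] [Module R N] (J : Ideal R) : Submodule R N where
  carrier := {y | ∀ a ∈ J, a • y = 0}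
  add_mem' hy hy' a ha := by rw [smul_add, hy a ha, hy' a ha, add_zero]
  zero_mem' a _ := smul_zero a
  smul_mem' c y hy a ha := by rw [smul_comm, hy a ha, smul_zero]

include hq in
theorem eq_zero_of_one' {N : Type u} [AddCommGroup N] [Module R N] {n : ℕ} {y : N}
    (hy : ∀ a ∈ I ^ n, a • y = 0) (h : one' R S N y = 0) : y = 0 := by
  have hb := bijective_of_pow_killed I hq n (killed (N := N) (I ^ n)) fun a ha y => Subtype.ext (y.2 a ha)
  have h2 : one' R S (killed (N := N) (I ^ n)) ⟨y, hy⟩ = 0 :=
    Module.Flat.lTensor_preserves_injective_linearMap (M := S) _ (Submodule.subtype_injective _)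
      (by rw [one'_natural, map_zero]; exact h)
  exact congrArg Subtype.val (hb.1 (h2.trans (map_zero _).symm))

include hq in
theorem exists_one'_of_killed {N : Type u} [AddCommGroup N] [Module R N] (hI : I.FG) {n : ℕ}
    {z : S ⊗[R] N} (hz : ∀ a ∈ I ^ n, a • z = 0) :
    ∃ y : N, (∀ a ∈ I ^ n, a • y = 0) ∧ one' R S N y = z := by
  classical
  set K := killed (N := N) (I ^ n)
  have hb := bijective_of_pow_killed I hq n K fun a ha y => Subtype.ext (y.2 a ha)
  obtain ⟨s, hs⟩ := hI.pow (n := n)
  let μ : N →ₗ[R] (s → N) := LinearMap.pi fun a => (a : R) • LinearMap.id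
  have hex : Function.Exact K.subtype μ := fun y => by
    constructor
    · intro h
      refine ⟨⟨y, fun a ha => ?_⟩, rfl⟩
      rw [← hs] at ha
      induction ha using Submodule.span_induction with
      | mem a ha => exact congrFun h ⟨a, ha⟩
      | zero => exact zero_smul _ _
      | add a b _ _ ha hb => rw [add_smul, ha, hb, add_zero]
      | smul c a _ ha => rw [smul_assoc, ha, smul_zero]
    · rintro ⟨y, rfl⟩
      funext a
      exact y.2 a (hs ▸ Submodule.subset_span a.2)
  have hμ : μ.lTensor S z = 0 := by
    refine (TensorProduct.piRight R R S (fun _ : s => N)).injective ?_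
    rw [map_zero]
    funext a
    have h1 : (TensorProduct.piRight R R S (fun _ : s => N)) (μ.lTensor S z) a = (a : R) • z := by
      clear hz
      induction z using TensorProduct.induction_on with
      | zero => simp
      | tmul x y => simp [μ, TensorProduct.tmul_smul]
      | add a b ha hb => simp only [map_add, Pi.add_apply, smul_add, ha, hb]
    rw [h1]
    exact hz a (hs ▸ Submodule.subset_span a.2)
  obtain ⟨w, hw⟩ := (Module.Flat.lTensor_exact S hex z).mp hμ
  obtain ⟨y, rfl⟩ := hb.2 w
  exact ⟨y, y.2, by rw [← hw, one'_natural]; rfl⟩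

include hq in
theorem baseChange_bijective (hI : I.FG) {M N : Type u} [AddCommGroup M] [Module R M] [AddCommGroup N]
    [Module R N]
    (hMN : (∀ x : M, ∃ n : ℕ, ∀ a ∈ I ^ n, a • x = 0) ∨ (∀ y : N, ∃ n : ℕ, ∀ a ∈ I ^ n, a • y = 0)) :
    Function.Bijective (fun f : M →ₗ[R] N => LinearMap.baseChange S f) := by
  constructor
  · intro f g hfg
    refine LinearMap.ext fun x => sub_eq_zero.mp ?_
    have h0 : one' R S N (f x - g x) = 0 := by
      rw [map_sub, sub_eq_zero]
      exact LinearMap.congr_fun hfg (1 ⊗ₜ x)
    obtain hM | hN := hMN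
    · obtain ⟨n, hn⟩ := hM x
      exact eq_zero_of_one' I hq (n := n) (fun a ha => by
        rw [smul_sub, ← map_smul, ← map_smul, hn a ha, map_zero, map_zero, sub_zero]) h0
    · obtain ⟨n, hn⟩ := hN (f x - g x)
      exact eq_zero_of_one' I hq hn h0
  · intro F
    let h : M →ₗ[R] S ⊗[R] N := (F.restrictScalars R) ∘ₗ one' R S M
    have key : ∀ x, ∃ y : N, (∃ n : ℕ, ∀ a ∈ I ^ n, a • y = 0) ∧ one' R S N y = h x := by
      intro x
      obtain hM | hN := hMN
      · obtain ⟨n, hn⟩ := hM x
        obtain ⟨y, hy, hy'⟩ := exists_one'_of_killed I hq hI (n := n) (z := h x) fun a ha => by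
          rw [← map_smul, hn a ha, map_zero]
        exact ⟨y, ⟨n, hy⟩, hy'⟩
      · have : ∀ z : S ⊗[R] N, ∃ y, one' R S N y = z := fun z => by
          induction z using TensorProduct.induction_on with
          | zero => exact ⟨0, map_zero _⟩
          | tmul s y =>
            obtain ⟨n, hn⟩ := hN y
            obtain ⟨w, hw⟩ := (bijective_of_pow_killed I hq n (killed (N := N) (I ^ n))
              fun a ha y => Subtype.ext (y.2 a ha)).2 (s ⊗ₜ ⟨y, hn⟩)
            refine ⟨w, ?_⟩
            rw [show (w : N) = (killed (N := N) (I ^ n)).subtype w from rfl, ← one'_natural, hw]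
            rfl
          | add a b ha hb =>
            obtain ⟨x, hx⟩ := ha
            obtain ⟨y, hy⟩ := hb
            exact ⟨x + y, by rw [map_add, hx, hy]⟩
        obtain ⟨y, hy⟩ := this (h x)
        exact ⟨y, hN y, hy⟩
    choose y hy hy' using key
    have hz : ∀ z : N, (∃ n : ℕ, ∀ a ∈ I ^ n, a • z = 0) → one' R S N z = 0 → z = 0 :=
      fun z ⟨n, hn⟩ h => eq_zero_of_one' I hq hn h
    let T : Submodule R N := ⨆ n, killed (N := N) (I ^ n)
    have hmono : Monotone fun n => killed (N := N) (I ^ n) := fun a b hab z hz c hc =>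
      hz c (Ideal.pow_le_pow_right hab hc)
    have hT : ∀ z, z ∈ T ↔ ∃ n : ℕ, ∀ a ∈ I ^ n, a • z = 0 := fun z =>
      Submodule.mem_iSup_of_directed _ hmono.directed_le
    have huniq : ∀ z z', z ∈ T → z' ∈ T → one' R S N z = one' R S N z' → z = z' := fun z z' h h' e =>
      sub_eq_zero.mp (hz _ ((hT _).mp (sub_mem h h')) (by rw [map_sub, e, sub_self]))
    let f : M →ₗ[R] N :=
      { toFun := y
        map_add' := fun a b => huniq _ _ ((hT _).mpr (hy _)) (add_mem ((hT _).mpr (hy a)) ((hT _).mpr (hy b)))
          (by rw [map_add, hy', hy', hy', map_add])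
        map_smul' := fun r a => huniq _ _ ((hT _).mpr (hy _)) (Submodule.smul_mem _ r ((hT _).mpr (hy a)))
          (by rw [map_smul, hy', hy', map_smul]; rfl) }
    refine ⟨f, LinearMap.ext fun z => ?_⟩
    induction z using TensorProduct.induction_on with
    | zero => simp
    | tmul s x =>
      show f.baseChange S (s ⊗ₜ x) = _
      rw [LinearMap.baseChange_tmul, show s ⊗ₜ[R] f x = s • one' R S N (y x) by
        simp [one', f, TensorProduct.smul_tmul']]
      rw [hy']
      show s • F (1 ⊗ₜ x) = _
      rw [← map_smul, TensorProduct.smul_tmul', smul_eq_mul, mul_one]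
    | add a b ha hb => simp only [map_add, ha, hb]

end Groth.Agent.SmallH9
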