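import Groth.Prelude.Def_CAlgX
import Mathlib

/-!
Splitting finite algebras; universal injectivity over localisations.
-/

set_option autoImplicit false
universe u
open TensorProduct

namespace Groth.Agent.SmallH9

theorem exists_splitting (R S : Type u) [CommRing R] [CommRing S] [Algebra R S] [Module.Finite R S] :
    ∃ (R' : Type u) (_ : CommRing R') (_ : Algebra R R'), Module.Finite R R' ∧ Module.Free R R' ∧
      Function.Injective (algebraMap R R') ∧
      ∃ (n : ℕ) (d : Fin n → ℕ) (α : (i : Fin n) → Fin (d i) → R')
        (φ : MvPolynomial (Fin n) R' →ₐ[R'] R' ⊗[R] S), Function.Surjective φ ∧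
          ∀ i, φ (∏ j, (MvPolynomial.X i - MvPolynomial.C (α i j))) = 0 := by
  classical
  obtain ⟨n, s, hs⟩ := Module.Finite.exists_fin (R := R) (M := S)
  have hint : ∀ i, IsIntegral R (s i) := fun i => Algebra.IsIntegral.isIntegral _
  choose p hp hps using hint
  set P := ∏ i, p i with hP
  have hPm : P.Monic := Polynomial.monic_prod_of_monic _ _ fun i _ => hp i
  have hPs : ∀ i, Polynomial.aeval (s i) P = 0 := fun i => by
    rw [hP, map_prod]
    exact Finset.prod_eq_zero (Finset.mem_univ i) (hps i)
  -- the extension
  obtain ⟨R', _, _, hfin, hfree, hinj, hsplit⟩ : ∃ (R' : Type u) (_ : CommRing R') (_ : Algebra R R'),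
      Module.Finite R R' ∧ Module.Free R R' ∧ Function.Injective (algebraMap R R') ∧
      (P.map (algebraMap R R')).Splits := by
    cases subsingleton_or_nontrivial R with
    | inl h =>
      exact ⟨R, inferInstance, inferInstance, inferInstance, inferInstance, fun a b h => h,
        by rw [Subsingleton.elim (P.map (algebraMap R R)) 1]; exact Polynomial.Splits.one⟩
    | inr h =>
      obtain ⟨R', _, _, hf, hfr, _, hsp⟩ := hPm.exists_splits_map
      exact ⟨R', inferInstance, inferInstance, hf, hfr, FaithfulSMul.algebraMap_injective R R', hsp⟩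
  obtain ⟨m, hm⟩ := Polynomial.splits_iff_exists_multiset.mp hsplit
  rw [(hPm.map _).leadingCoeff, Polynomial.C_1, one_mul] at hm
  obtain ⟨l, rfl⟩ : ∃ l : List R', (l : Multiset R') = m := Quot.exists_rep m
  let φ : MvPolynomial (Fin n) R' →ₐ[R'] R' ⊗[R] S := MvPolynomial.aeval fun i => 1 ⊗ₜ s i
  refine ⟨R', inferInstance, inferInstance, hfin, hfree, hinj, n, fun _ => l.length,
    fun _ j => l.get j, φ, fun x => ?_, fun i => ?_⟩
  · induction x using TensorProduct.induction_on with
    | zero => exact ⟨0, map_zero _⟩
    | tmul a b =>
      obtain ⟨c, rfl⟩ := (Submodule.mem_span_range_iff_exists_fun R).mp (hs ▸ Submodule.mem_top : b ∈ _)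
      refine ⟨∑ i, MvPolynomial.C (a * algebraMap R R' (c i)) * MvPolynomial.X i, ?_⟩
      rw [map_sum, TensorProduct.tmul_sum]
      refine Finset.sum_congr rfl fun i _ => ?_
      rw [map_mul, MvPolynomial.aeval_C, MvPolynomial.aeval_X, ← Algebra.smul_def,
        TensorProduct.smul_tmul', smul_eq_mul, mul_one, ← Algebra.commutes, ← Algebra.smul_def,
        TensorProduct.smul_tmul]
    | add a b ha hb =>
      obtain ⟨ya, hya⟩ := ha
      obtain ⟨yb, hyb⟩ := hb
      exact ⟨ya + yb, by rw [map_add, hya, hyb]⟩
  · have h0 : Polynomial.aeval ((1 : R') ⊗ₜ[R] s i) (P.map (algebraMap R R')) = 0 := by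
      rw [Polynomial.aeval_map_algebraMap,
        ← Algebra.TensorProduct.includeRight_apply (R := R) (A := R'), Polynomial.aeval_algHom_apply,
        hPs, map_zero]
    rw [hm, Multiset.map_coe, Multiset.prod_coe, map_list_prod, List.map_map] at h0
    rw [map_prod, ← h0, ← Fin.prod_univ_getElem]
    refine Fintype.prod_equiv (finCongr (by simp)) _ _ fun j => ?_
    simp [φ]

open LinearMap in
theorem universallyInjective_iff_localization {A B : Type u} [CommRing A] [CommRing B] [Algebra A B]
    (S : Submonoid A) (As Bs : Type u) [CommRing As] [CommRing Bs] [Algebra A As] [IsLocalization S As]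
    [Algebra As Bs] {M M' : Type u} [AddCommGroup M] [AddCommGroup M'] [Module Bs M] [Module Bs M']
    [Module As M] [Module As M'] [Module A M] [Module A M'] [IsScalarTower As Bs M] [IsScalarTower As Bs M']
    [IsScalarTower A As M] [IsScalarTower A As M']
    (f : M →ₗ[A] M') (g : M →ₗ[As] M') (hfg : ∀ x, f x = g x) :
    CAlgX.UniversallyInjective A f ↔ CAlgX.UniversallyInjective As g := by
  constructor
  · intro h Q _ _
    letI : Module A Q := Module.compHom Q (algebraMap A As)
    haveI : IsScalarTower A As Q := IsScalarTower.of_algebraMap_smul fun r x => rfl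
    haveI : CompatibleSMul A As M Q := IsLocalization.tensorProduct_compatibleSMul S As M Q
    haveI : CompatibleSMul A As M' Q := IsLocalization.tensorProduct_compatibleSMul S As M' Q
    let e := TensorProduct.equivOfCompatibleSMul A As As M Q
    let e' := TensorProduct.equivOfCompatibleSMul A As As M' Q
    have key : ∀ x, e' (g.rTensor Q x) = f.rTensor Q (e x) := fun x => by
      induction x using TensorProduct.induction_on with
      | zero => simp
      | tmul m q =>
        show g m ⊗ₜ[A] q = f m ⊗ₜ[A] q
        rw [hfg]
      | add a b ha hb => simp only [map_add, ha, hb]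
    intro a b hab
    have := congrArg e' hab
    rw [key, key] at this
    exact e.injective (h Q this)
  · intro h Q _ _
    let e := TensorProduct.AlgebraTensorModule.cancelBaseChange A As As M Q
    let e' := TensorProduct.AlgebraTensorModule.cancelBaseChange A As As M' Q
    have key : ∀ x, e' (g.rTensor (As ⊗[A] Q) x) = f.rTensor Q (e x) := fun x => by
      induction x using TensorProduct.induction_on with
      | zero => simp
      | tmul m y =>
        induction y using TensorProduct.induction_on with
        | zero => simp
        | tmul r q => simp [e, e', hfg]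
        | add a b ha hb => simp only [TensorProduct.tmul_add, map_add, ha, hb]
      | add a b ha hb => simp only [map_add, ha, hb]
    intro a b hab
    obtain ⟨a, rfl⟩ := e.surjective a
    obtain ⟨b, rfl⟩ := e.surjective b
    rw [← key, ← key] at hab
    exact congrArg e (h (As ⊗[A] Q) (e'.injective hab))

end Groth.Agent.SmallH9
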