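import Mathlib

/-!
Squares in a localisation lift along calculus of fractions.
-/

set_option autoImplicit false
universe v u v' u'
open CategoryTheory

namespace Groth.Agent.SmallH9

theorem exists_lift_commSq {C : Type u} [Category.{v} C] {D : Type u'} [Category.{v'} D]
    (W : MorphismProperty C) (L : C ⥤ D) [L.IsLocalization W] [W.HasLeftCalculusOfFractions]
    {X Y X' Y' : C} (f : X ⟶ Y) (f' : X' ⟶ Y') (a : L.obj X ⟶ L.obj X') (b : L.obj Y ⟶ L.obj Y')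
    (w : L.map f ≫ b = a ≫ L.map f') :
    ∃ (X'' Y'' : C) (f'' : X'' ⟶ Y'') (g : X ⟶ X'') (h : Y ⟶ Y'') (s : X' ⟶ X'') (t : Y' ⟶ Y''),
      W s ∧ W t ∧ f ≫ h = g ≫ f'' ∧ f' ≫ t = s ≫ f'' ∧ L.map g = a ≫ L.map s ∧ L.map h = b ≫ L.map t := by
  obtain ⟨φ, hφ⟩ := Localization.exists_leftFraction L W a
  obtain ⟨ψ, hψ⟩ := Localization.exists_leftFraction L W b
  have ea : a ≫ L.map φ.s = L.map φ.f := by
    rw [hφ]; exact MorphismProperty.LeftFraction.map_comp_map_s _ _ _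
  have eb : b ≫ L.map ψ.s = L.map ψ.f := by
    rw [hψ]; exact MorphismProperty.LeftFraction.map_comp_map_s _ _ _
  obtain ⟨χ, hχ⟩ := MorphismProperty.RightFraction.exists_leftFraction
    (MorphismProperty.RightFraction.mk φ.s φ.hs (f' ≫ ψ.s))
  dsimp at hχ
  have h1 : L.map (φ.f ≫ χ.f) = L.map (f ≫ ψ.f ≫ χ.s) := by
    simp only [L.map_comp]
    rw [← ea, ← eb]
    simp only [Category.assoc]
    rw [reassoc_of% w, ← L.map_comp φ.s χ.f, ← hχ]
    simp only [L.map_comp, Category.assoc]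
  obtain ⟨Z, t, ht, e⟩ := (MorphismProperty.map_eq_iff_postcomp L W _ _).mp h1
  refine ⟨_, Z, χ.f ≫ t, φ.f, ψ.f ≫ χ.s ≫ t, φ.s, ψ.s ≫ χ.s ≫ t, φ.hs,
    MorphismProperty.comp_mem _ _ _ ψ.hs (MorphismProperty.comp_mem _ _ _ χ.hs ht), ?_, ?_, ea.symm, ?_⟩
  · simpa [Category.assoc] using e.symm
  · simp only [← Category.assoc] at hχ ⊢
    rw [hχ]
  · simp only [L.map_comp, ← Category.assoc, eb]

end Groth.Agent.SmallH9
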