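import Mathlib

/-!
Serre classes as kernels of exact functors; lifting automorphisms of smooth algebras.
-/

set_option autoImplicit false
universe v u v' u' v'' u''
open CategoryTheory CategoryTheory.Limits

namespace Groth.Agent.SmallH9

theorem eq_kernel_iff_faithful {A : Type u} [Category.{v} A] [Abelian A] {B : Type u'} [Category.{v'} B]
    [Abelian B] (F : A ⥤ B) [F.Additive] [PreservesFiniteLimits F] [PreservesFiniteColimits F]
    (P : ObjectProperty A) [P.IsSerreClass] {Q : Type u''}
    [Category.{v''} Q] [Preadditive Q] (L : A ⥤ Q) [L.IsLocalization P.isoModSerre] [L.Additive]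
    (Fbar : Q ⥤ B) (e : L ⋙ Fbar ≅ F) :
    (∀ X : A, IsZero (F.obj X) → P X) ↔ Fbar.Faithful := by
  have hconj : ∀ {X Y : A} (a b : X ⟶ Y), Fbar.map (L.map a) = Fbar.map (L.map b) ↔ F.map a = F.map b := by
    intro X Y a b
    constructor
    · intro h
      rw [← cancel_epi (e.hom.app X), ← e.hom.naturality a, ← e.hom.naturality b]
      exact congrArg (fun z => z ≫ e.hom.app Y) h
    · intro h
      rw [← cancel_mono (e.hom.app Y)]
      exact (e.hom.naturality a).trans ((congrArg (fun z => e.hom.app X ≫ z) h).trans (e.hom.naturality b).symm)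
  constructor
  · intro h
    haveI := Localization.essSurj L P.isoModSerre
    have key : ∀ {X Y : A} (a : X ⟶ Y), F.map a = 0 → L.map a = 0 := by
      intro X Y a ha
      refine (ObjectProperty.SerreClassLocalization.map_eq_zero_iff L P a).mpr (h _ ?_)
      rw [← Abelian.image.fac a, F.map_comp] at ha
      haveI : Epi (F.map (Abelian.factorThruImage a)) := inferInstance
      haveI : Mono (F.map (Abelian.image.ι a)) := inferInstance
      rw [IsZero.iff_id_eq_zero, ← cancel_epi (F.map (Abelian.factorThruImage a)),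
        ← cancel_mono (F.map (Abelian.image.ι a))]
      simpa using ha
    refine ⟨fun {X Y g₁ g₂} hg => ?_⟩
    let iX := L.objObjPreimageIso X
    let iY := L.objObjPreimageIso Y
    obtain ⟨φ, h₁, h₂⟩ := Localization.exists_leftFraction₂ L P.isoModSerre
      (iX.hom ≫ g₁ ≫ iY.inv) (iX.hom ≫ g₂ ≫ iY.inv)
    have hLs : IsIso (L.map φ.s) := Localization.inverts L P.isoModSerre _ φ.hs
    have e1 : (iX.hom ≫ g₁ ≫ iY.inv) ≫ L.map φ.s = L.map φ.f := by
      rw [h₁]; exact MorphismProperty.LeftFraction.map_comp_map_s _ _ _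
    have e2 : (iX.hom ≫ g₂ ≫ iY.inv) ≫ L.map φ.s = L.map φ.f' := by
      rw [h₂]; exact MorphismProperty.LeftFraction.map_comp_map_s _ _ _
    have hd : L.map (φ.f - φ.f') = 0 := by
      refine key _ ?_
      rw [F.map_sub, sub_eq_zero, ← hconj, ← e1, ← e2]
      simp [hg]
    rw [L.map_sub, sub_eq_zero, ← e1, ← e2, cancel_mono] at hd
    rwa [cancel_epi, cancel_mono] at hd
  · intro hF X hX
    refine (ObjectProperty.SerreClassLocalization.isZero_obj_iff L P X).mp ?_
    rw [IsZero.iff_id_eq_zero, ← L.map_id, ← L.map_zero]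
    exact Fbar.map_injective ((hconj _ _).mpr (hX.eq_of_src _ _))

theorem exists_lift_algEquiv {R A : Type u} [CommRing R] [CommRing A] [Algebra R A]
    [Algebra.FormallySmooth R A] (J : Ideal R) (hJ : J * J = ⊥)
    (φ₀ : (A ⧸ Ideal.map (algebraMap R A) J) ≃ₐ[R] (A ⧸ Ideal.map (algebraMap R A) J)) :
    ∃ φ : A ≃ₐ[R] A,
      (Ideal.Quotient.mkₐ R (Ideal.map (algebraMap R A) J)).comp φ.toAlgHom =
        φ₀.toAlgHom.comp (Ideal.Quotient.mkₐ R (Ideal.map (algebraMap R A) J)) := by
  let I := Ideal.map (algebraMap R A) J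
  have hI2 : IsNilpotent I := ⟨2, by rw [pow_two, ← Ideal.map_mul, hJ, Ideal.map_bot]; rfl⟩
  obtain ⟨f, hf⟩ := Algebra.FormallySmooth.exists_lift I hI2 (φ₀.toAlgHom.comp (Ideal.Quotient.mkₐ R I))
  obtain ⟨g, hg⟩ := Algebra.FormallySmooth.exists_lift I hI2 (φ₀.symm.toAlgHom.comp (Ideal.Quotient.mkₐ R I))
  -- an endomorphism which is the identity modulo `I` is bijective
  have key : ∀ e : A →ₐ[R] A, (∀ a, e a - a ∈ I) → Function.Bijective e := by
    intro e he
    have hfix : ∀ y ∈ I, e y = y := by
      intro y hy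
      induction hy using Submodule.span_induction with
      | mem y hy => obtain ⟨j, -, rfl⟩ := hy; exact e.commutes j
      | zero => exact map_zero e
      | add a b _ _ ha hb => rw [map_add, ha, hb]
      | smul c a hmem ha =>
        rw [smul_eq_mul, map_mul, ha]
        have : (e c - c) * a = 0 := by
          have h1 : (e c - c) * a ∈ I * I := Ideal.mul_mem_mul (he c) hmem
          rw [← Ideal.map_mul, hJ, Ideal.map_bot] at h1
          exact h1
        linear_combination this
    refine ⟨fun a b hab => ?_, fun b => ⟨b - (e b - b), by rw [map_sub, hfix _ (he b)]; abel⟩⟩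
    have h0 : e (a - b) = 0 := by rw [map_sub, hab, sub_self]
    have h1 : a - b ∈ I := by
      have := he (a - b)
      rwa [h0, zero_sub, neg_mem_iff] at this
    exact sub_eq_zero.mp ((hfix _ h1).symm.trans h0)
  have hf' : ∀ a, Ideal.Quotient.mk I (f a) = φ₀ (Ideal.Quotient.mk I a) := fun a => AlgHom.congr_fun hf a
  have hg' : ∀ a, Ideal.Quotient.mk I (g a) = φ₀.symm (Ideal.Quotient.mk I a) := fun a => AlgHom.congr_fun hg a
  have h1 := key (f.comp g) fun a => Ideal.Quotient.eq.mp (by
    rw [AlgHom.comp_apply, hf', hg', AlgEquiv.apply_symm_apply])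
  have h2 := key (g.comp f) fun a => Ideal.Quotient.eq.mp (by
    rw [AlgHom.comp_apply, hg', hf', AlgEquiv.symm_apply_apply])
  exact ⟨AlgEquiv.ofBijective f ⟨fun a b h => h2.1 (congrArg g h),
    fun b => let ⟨a, ha⟩ := h1.2 b; ⟨g a, ha⟩⟩, AlgHom.ext fun a => hf' a⟩

end Groth.Agent.SmallH9
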