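import Mathlib

/-!
Congruent maps have the same graded cokernels.
-/

set_option autoImplicit false
universe u

namespace Groth.Agent.SmallH9

theorem sub_mem_pow {A : Type u} [CommRing A] (I : Ideal A) {M N : Type u} [AddCommGroup M] [Module A M]
    [AddCommGroup N] [Module A N] (g g' : M →ₗ[A] N) (e : ℕ)
    (h : ∀ y : M, g y - g' y ∈ I ^ e • (⊤ : Submodule A N)) (j : ℕ) (y : M)
    (hy : y ∈ I ^ j • (⊤ : Submodule A M)) : g y - g' y ∈ I ^ (j + e) • (⊤ : Submodule A N) := by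
  have h1 : (g - g') y ∈ Submodule.map (g - g') (I ^ j • (⊤ : Submodule A M)) := ⟨y, hy, rfl⟩
  rw [Submodule.map_smul''] at h1
  rw [pow_add, Submodule.mul_smul]
  refine Submodule.smul_mono le_rfl ?_ h1
  rintro _ ⟨z, -, rfl⟩
  exact h z

theorem coker_filtration_eq {A : Type u} [CommRing A] (I : Ideal A)
    {L M N : Type u} [AddCommGroup L] [Module A L] [AddCommGroup M] [Module A M] [AddCommGroup N] [Module A N]
    (f f' : L →ₗ[A] M) (g g' : M →ₗ[A] N) (c : ℕ) (hgf' : g'.comp f' = 0)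
    (hf : (∀ n : ℕ, c ≤ n → LinearMap.range f ⊓ (I ^ n • (⊤ : Submodule A M)) ≤ Submodule.map f (I ^ (n - c) • (⊤ : Submodule A L))))
    (hg : (∀ n : ℕ, c ≤ n → LinearMap.range g ⊓ (I ^ n • (⊤ : Submodule A N)) ≤ Submodule.map g (I ^ (n - c) • (⊤ : Submodule A M))))
    (hex : Function.Exact f g)
    (hff' : ∀ x : L, f x - f' x ∈ I ^ (c + 1) • (⊤ : Submodule A M))
    (hgg' : ∀ y : M, g y - g' y ∈ I ^ (c + 1) • (⊤ : Submodule A N)) (n : ℕ) :
    I ^ (n + 1) • (⊤ : Submodule A N) ⊔ (LinearMap.range g ⊓ I ^ n • (⊤ : Submodule A N)) =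
      I ^ (n + 1) • (⊤ : Submodule A N) ⊔ (LinearMap.range g' ⊓ I ^ n • (⊤ : Submodule A N)) := by
  have mono : ∀ {X : Type u} [AddCommGroup X] [Module A X] {a b : ℕ}, a ≤ b →
      I ^ b • (⊤ : Submodule A X) ≤ I ^ a • ⊤ := fun h => Submodule.smul_mono_left (Ideal.pow_le_pow_right h)
  -- `g'` also satisfies the bound
  have key : ∀ j y, j + c ≤ n → g' y ∈ I ^ n • (⊤ : Submodule A N) →
      ∃ y', y' ∈ I ^ j • (⊤ : Submodule A M) ∧ g' y' = g' y := by
    intro j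
    induction j with
    | zero =>
      intro y _ _
      exact ⟨y, by simp, rfl⟩
    | succ j ih =>
      intro y hj hy
      obtain ⟨y₁, hy₁, hy₁'⟩ := ih y (by omega) hy
      have h1 : g y₁ ∈ I ^ (j + c + 1) • (⊤ : Submodule A N) := by
        rw [show g y₁ = (g y₁ - g' y₁) + g' y₁ by abel, hy₁']
        refine add_mem ?_ (mono (by omega) hy)
        rw [← hy₁']
        exact sub_mem_pow I g g' _ hgg' j y₁ hy₁
      obtain ⟨z, hz, hzy⟩ := hg (j + c + 1) (by omega) ⟨⟨y₁, rfl⟩, h1⟩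
      rw [SetLike.mem_coe, show j + c + 1 - c = j + 1 by omega] at hz
      obtain ⟨x, hx⟩ := (hex (y₁ - z)).mp (by rw [map_sub, hzy, sub_self])
      obtain ⟨x', hx', hxd⟩ : ∃ x', f x' = f x ∧ f x' - f' x' ∈ I ^ (j + 1) • (⊤ : Submodule A M) := by
        by_cases hjc : c ≤ j
        · obtain ⟨x', hx', hxx⟩ := hf j hjc (show f x ∈ _ from ⟨⟨x, rfl⟩, hx ▸ sub_mem hy₁ (mono (by omega) hz)⟩)
          exact ⟨x', hxx, mono (by omega) (sub_mem_pow I f f' _ hff' (j - c) x' hx')⟩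
        · exact ⟨x, rfl, mono (by omega) (hff' x)⟩
      refine ⟨y₁ - f' x', ?_, ?_⟩
      · rw [show y₁ - f' x' = z + (f x' - f' x') by rw [hx', hx]; abel]
        exact add_mem hz hxd
      · rw [map_sub, ← LinearMap.comp_apply, hgf', LinearMap.zero_apply, sub_zero, hy₁']
  refine le_antisymm (sup_le le_sup_left ?_) (sup_le le_sup_left ?_)
  · rintro _ ⟨⟨y, rfl⟩, hy⟩
    obtain ⟨y', hy', hd⟩ : ∃ y', g y' = g y ∧ g y' - g' y' ∈ I ^ (n + 1) • (⊤ : Submodule A N) := by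
      by_cases hn : c ≤ n
      · obtain ⟨y', h1, h2⟩ := hg n hn ⟨⟨y, rfl⟩, hy⟩
        exact ⟨y', h2, mono (by omega) (sub_mem_pow I g g' _ hgg' (n - c) y' h1)⟩
      · exact ⟨y, rfl, mono (by omega) (hgg' y)⟩
    rw [← hy', show g y' = (g y' - g' y') + g' y' by abel]
    refine Submodule.add_mem_sup hd ⟨⟨y', rfl⟩, ?_⟩
    rw [show g' y' = g y' - (g y' - g' y') by abel]
    exact sub_mem (hy' ▸ hy) (mono (by omega) hd)
  · rintro _ ⟨⟨y, rfl⟩, hy⟩
    obtain ⟨y', hy', hd⟩ : ∃ y', g' y' = g' y ∧ g y' - g' y' ∈ I ^ (n + 1) • (⊤ : Submodule A N) := by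
      by_cases hn : c ≤ n
      · obtain ⟨y', h1, h2⟩ := key (n - c) y (by omega) hy
        exact ⟨y', h2, mono (by omega) (sub_mem_pow I g g' _ hgg' (n - c) y' h1)⟩
      · exact ⟨y, rfl, mono (by omega) (hgg' y)⟩
    rw [← hy', show g' y' = -(g y' - g' y') + g y' by abel]
    refine Submodule.add_mem_sup (neg_mem hd) ⟨⟨y', rfl⟩, ?_⟩
    rw [show g y' = g' y' + (g y' - g' y') by abel]
    exact add_mem (hy' ▸ hy) (mono (by omega) hd)

end Groth.Agent.SmallH9
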