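import Mathlib

/-!
Systems of parameters through a given element are stable under small perturbation.
-/

set_option autoImplicit false
universe u
open IsLocalRing

namespace Groth.Agent.SmallH9

theorem dim_quotient_succ_le {R : Type u} [CommRing R] {r : R}
    (hr' : Ideal.span ({r} : Set R) ≠ ⊤) (hr : ∀ p ∈ minimalPrimes R, r ∉ p) :
    ringKrullDim (R ⧸ Ideal.span {r}) + 1 ≤ ringKrullDim R := by
  have : Nonempty (PrimeSpectrum.zeroLocus (R := R) (Ideal.span ({r} : Set R))) := by
    rwa [Set.nonempty_coe_sort, Set.nonempty_iff_ne_empty, ne_eq, PrimeSpectrum.zeroLocus_empty_iff_eq_top]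
  have := Ideal.Quotient.nontrivial_iff.mpr hr'
  have := (Ideal.Quotient.mk (Ideal.span ({r} : Set R))).domain_nontrivial
  rw [ringKrullDim_quotient, Order.krullDim_eq_iSup_length, ringKrullDim,
    Order.krullDim_eq_iSup_length, ← WithBot.coe_one, ← WithBot.coe_add,
    ENat.iSup_add, WithBot.coe_le_coe, iSup_le_iff]
  intro l
  obtain ⟨p, hp, hp'⟩ := Ideal.exists_minimalPrimes_le (J := l.head.1.asIdeal) bot_le
  let p' : PrimeSpectrum R := ⟨p, hp.1.1⟩
  have hp' : p' < l.head := lt_of_le_of_ne hp' fun h ↦ hr p hp (show r ∈ p by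
    simpa [← h] using l.head.2)
  refine le_trans ?_ (le_iSup _ ((l.map Subtype.val (fun _ _ ↦ id)).cons p' hp'))
  simp

theorem exists_sop_perturb (R : Type u) [CommRing R] [IsNoetherianRing R] [IsLocalRing R]
    (d : ℕ) (hd : ringKrullDim R = d) (f : R) (hf : f ∈ maximalIdeal R)
    (hmin : ∀ p ∈ minimalPrimes R, f ∉ p) :
    ∃ (g : Fin (d - 1) → R) (N : ℕ), (∀ i, g i ∈ maximalIdeal R) ∧
      maximalIdeal R ≤ (Ideal.span (insert f (Set.range g))).radical ∧
      ∀ h ∈ maximalIdeal R ^ N,
        maximalIdeal R ≤ (Ideal.span (insert (f + h) (Set.range g))).radical ∧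
        Module.length R (R ⧸ Ideal.span (insert f (Set.range g))) =
          Module.length R (R ⧸ Ideal.span (insert (f + h) (Set.range g))) := by
  classical
  set Q := R ⧸ Ideal.span ({f} : Set R)
  have hne : Ideal.span ({f} : Set R) ≠ ⊤ := fun h =>
    (maximalIdeal.isMaximal R).ne_top (top_le_iff.mp (h ▸ (Ideal.span_singleton_le_iff_mem _).mpr hf))
  haveI : Nontrivial Q := Ideal.Quotient.nontrivial_iff.mpr hne
  haveI : IsLocalRing Q := .of_surjective' (Ideal.Quotient.mk _) Ideal.Quotient.mk_surjective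
  obtain ⟨s, hs, hcard⟩ := (maximalIdeal Q).exists_finset_card_eq_height_of_isNoetherianRing
  have hsd : s.card + 1 ≤ d := by
    have h := dim_quotient_succ_le hne hmin
    rw [← IsLocalRing.maximalIdeal_height_eq_ringKrullDim (R := Q), ← hcard, hd] at h
    exact_mod_cast h
  have hrad : (Ideal.span (s : Set Q)).radical = maximalIdeal Q := by
    rw [← Ideal.sInf_minimalPrimes]
    refine le_antisymm (sInf_le hs) (le_sInf fun p hp => ?_)
    have hple : p ≤ maximalIdeal Q := le_maximalIdeal hp.1.1.ne_top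
    exact hs.2 hp.1 hple
  -- lifts of the generators, padded with zeros
  obtain ⟨g, hgm, hgs⟩ : ∃ g : Fin (d - 1) → R, (∀ i, g i ∈ maximalIdeal R) ∧
      (s : Set Q) ⊆ Set.range fun i => Ideal.Quotient.mk _ (g i) := by
    choose L hL using Ideal.Quotient.mk_surjective (I := Ideal.span ({f} : Set R))
    let e := s.equivFin
    refine ⟨fun i => if h : i.val < s.card then L (e.symm ⟨i.val, h⟩).val else 0, fun i => ?_, fun q hq => ?_⟩
    · dsimp only
      split_ifs with h
      · set q := (e.symm ⟨i.val, h⟩)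
        have hq : (q : Q) ∈ maximalIdeal Q := hs.1.2 (Ideal.subset_span q.2)
        rw [IsLocalRing.mem_maximalIdeal, mem_nonunits_iff] at hq ⊢
        intro hu
        exact hq (hL q ▸ hu.map _)
      · exact zero_mem _
    · refine ⟨⟨(e ⟨q, hq⟩).val, by have := (e ⟨q, hq⟩).2; omega⟩, ?_⟩
      simp [hL]
  set J := Ideal.span (insert f (Set.range g)) with hJ
  have hJr : maximalIdeal R ≤ J.radical := by
    intro x hx
    have hx' : Ideal.Quotient.mk (Ideal.span ({f} : Set R)) x ∈ (Ideal.span (s : Set Q)).radical := by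
      rw [hrad, IsLocalRing.mem_maximalIdeal, mem_nonunits_iff]
      intro hu
      obtain ⟨y, hy⟩ := hu.exists_right_inv
      obtain ⟨y, rfl⟩ := Ideal.Quotient.mk_surjective y
      rw [← map_mul, ← map_one (Ideal.Quotient.mk (Ideal.span ({f} : Set R))), Ideal.Quotient.eq,
        Ideal.mem_span_singleton'] at hy
      obtain ⟨c, hc⟩ := hy
      have : (1 : R) ∈ maximalIdeal R := by
        rw [show (1 : R) = x * y - c * f by rw [hc]; ring]
        exact sub_mem (Ideal.mul_mem_right _ _ hx) (Ideal.mul_mem_left _ _ hf)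
      exact (maximalIdeal.isMaximal R).ne_top ((Ideal.eq_top_iff_one _).mpr this)
    obtain ⟨n, hn⟩ := hx'
    refine ⟨n, ?_⟩
    have : Ideal.span (s : Set Q) ≤ J.map (Ideal.Quotient.mk _) := Ideal.span_le.mpr fun q hq => by
      obtain ⟨i, rfl⟩ := hgs hq
      exact Ideal.mem_map_of_mem _ (Ideal.subset_span (Or.inr ⟨i, rfl⟩))
    have h1 := this hn
    rw [← map_pow, Ideal.mem_quotient_iff_mem] at h1
    · exact h1
    · exact (Ideal.span_singleton_le_iff_mem _).mpr (Ideal.subset_span (Or.inl rfl))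
  obtain ⟨N, hN⟩ := Ideal.exists_pow_le_of_le_radical_of_fg hJr (IsNoetherian.noetherian _)
  refine ⟨g, N + 1, hgm, hJr, fun h hh => ?_⟩
  have hh' : h ∈ maximalIdeal R • J := by
    rw [pow_succ'] at hh
    exact Ideal.mul_mono_right hN hh
  have heq : Ideal.span (insert (f + h) (Set.range g)) = J := by
    refine le_antisymm (Ideal.span_le.mpr ?_) ?_
    · rintro _ (rfl | hx)
      · exact add_mem (Ideal.subset_span (Or.inl rfl)) (Submodule.smul_le_right hh')
      · exact Ideal.subset_span (Or.inr hx)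
    · refine Submodule.le_of_le_smul_of_le_jacobson_bot (IsNoetherian.noetherian J)
        (IsLocalRing.maximalIdeal_le_jacobson ⊥) ?_
      refine Ideal.span_le.mpr ?_
      rintro x (hx | hx)
      · have h3 : (f + h) - h ∈ Ideal.span (insert (f + h) (Set.range g)) ⊔ maximalIdeal R • J :=
          sub_mem (Submodule.mem_sup_left (Ideal.subset_span (Or.inl rfl))) (Submodule.mem_sup_right hh')
        rw [add_sub_cancel_right] at h3
        rw [hx]
        exact h3
      · exact Submodule.mem_sup_left (Ideal.subset_span (Or.inr hx))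
  rw [heq]
  exact ⟨hJr, rfl⟩

end Groth.Agent.SmallH9
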