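import Mathlib

/-!
Closures in products of schemes over a field; removing a closed point destroys properness.
-/

set_option autoImplicit false
universe u
open CategoryTheory CategoryTheory.Limits AlgebraicGeometry

namespace Groth.Agent.SmallH9

theorem closure_inter_preimage_eq {k : Type u} [Field k] {X Y : Scheme.{u}}
    (f : X ⟶ Spec (CommRingCat.of k)) (g : Y ⟶ Spec (CommRingCat.of k)) (A : Set ↥X) (B : Set ↥Y) :
    closure ((pullback.fst f g).base ⁻¹' A ∩ (pullback.snd f g).base ⁻¹' B) =
      (pullback.fst f g).base ⁻¹' closure A ∩ (pullback.snd f g).base ⁻¹' closure B := by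
  refine subset_antisymm (closure_minimal ?_ ?_) ?_
  · exact Set.inter_subset_inter (Set.preimage_mono subset_closure) (Set.preimage_mono subset_closure)
  · exact (isClosed_closure.preimage (Scheme.Hom.continuous _)).inter
      (isClosed_closure.preimage (Scheme.Hom.continuous _))
  rintro z ⟨hzA, hzB⟩
  rw [mem_closure_iff]
  intro U hU hzU
  set b₀ := pullback.snd f g z
  -- the fibre over `b₀` maps openly to `X`
  have h1 : IsOpen ((pullback.fst f g).base '' (U ∩ (pullback.snd f g).base ⁻¹' {b₀})) := by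
    let q := pullback.map f (Y.fromSpecResidueField b₀ ≫ g) f g (𝟙 X) (Y.fromSpecResidueField b₀) (𝟙 _)
      (by simp) (by simp)
    have hq : q ≫ pullback.fst f g = pullback.fst f (Y.fromSpecResidueField b₀ ≫ g) := by
      exact (pullback.lift_fst _ _ _).trans (Category.comp_id _)
    have hr : Set.range q = (pullback.snd f g).base ⁻¹' {b₀} := by
      rw [Scheme.Pullback.range_map, Scheme.range_fromSpecResidueField]
      simp
    rw [show U ∩ (pullback.snd f g).base ⁻¹' {b₀} = q '' (q ⁻¹' U) by
      rw [Set.image_preimage_eq_inter_range, hr], Set.image_image]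
    have : (fun x => (pullback.fst f g).base (q x)) =
        (pullback.fst f (Y.fromSpecResidueField b₀ ≫ g)) := by
      funext x; rw [← hq]; rfl
    rw [this]
    exact (pullback.fst f (Y.fromSpecResidueField b₀ ≫ g)).isOpenMap _ (hU.preimage q.continuous)
  obtain ⟨a, ⟨z', ⟨hz'U, hz'b⟩, hz'a⟩, haA⟩ :=
    mem_closure_iff.mp hzA _ h1 ⟨z, ⟨hzU, rfl⟩, rfl⟩
  -- the fibre over `a` maps openly to `Y`
  have h2 : IsOpen ((pullback.snd f g).base '' (U ∩ (pullback.fst f g).base ⁻¹' {a})) := by
    let q := pullback.map (X.fromSpecResidueField a ≫ f) g f g (X.fromSpecResidueField a) (𝟙 Y) (𝟙 _)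
      (by simp) (by simp)
    have hq : q ≫ pullback.snd f g = pullback.snd (X.fromSpecResidueField a ≫ f) g := by
      exact (pullback.lift_snd _ _ _).trans (Category.comp_id _)
    have hr : Set.range q = (pullback.fst f g).base ⁻¹' {a} := by
      rw [Scheme.Pullback.range_map, Scheme.range_fromSpecResidueField]
      simp
    rw [show U ∩ (pullback.fst f g).base ⁻¹' {a} = q '' (q ⁻¹' U) by
      rw [Set.image_preimage_eq_inter_range, hr], Set.image_image]
    have : (fun x => (pullback.snd f g).base (q x)) =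
        (pullback.snd (X.fromSpecResidueField a ≫ f) g) := by
      funext x; rw [← hq]; rfl
    rw [this]
    exact (pullback.snd (X.fromSpecResidueField a ≫ f) g).isOpenMap _ (hU.preimage q.continuous)
  obtain ⟨b, ⟨z'', ⟨hz''U, hz''a⟩, hz''b⟩, hbB⟩ :=
    mem_closure_iff.mp hzB _ h2 ⟨z', ⟨hz'U, hz'a⟩, hz'b⟩
  refine ⟨z'', hz''U, ?_, ?_⟩
  · show (pullback.fst f g).base z'' ∈ A
    rw [hz''a]; exact haA
  · show (pullback.snd f g).base z'' ∈ B
    rw [hz''b]; exact hbB

theorem not_isProper_compl_singleton {k : Type u} [Field k] {X : Scheme.{u}}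
    (f : X ⟶ Spec (CommRingCat.of k)) [IsSeparated f] [IrreducibleSpace X]
    (hdim : 0 < topologicalKrullDim X) (x : X) (hx : IsClosed ({x} : Set X)) :
    ¬ IsProper (Scheme.Opens.ι (⟨({x} : Set X)ᶜ, hx.isOpen_compl⟩ : X.Opens) ≫ f) := by
  intro h
  haveI : IsProper (Scheme.Opens.ι (⟨({x} : Set X)ᶜ, hx.isOpen_compl⟩ : X.Opens)) :=
    IsProper.of_comp _ f
  have hc : IsClosed (({x} : Set X)ᶜ) := by
    have := (Scheme.Opens.ι (⟨({x} : Set X)ᶜ, hx.isOpen_compl⟩ : X.Opens)).isClosedMap.isClosed_range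
    rwa [Scheme.Opens.range_ι] at this
  have huniv : ({x} : Set X) = Set.univ :=
    (IsClopen.eq_univ ⟨hx, by simpa using hc.isOpen_compl⟩ ⟨x, rfl⟩)
  haveI : Subsingleton X := ⟨fun a b => by
    have ha : a ∈ ({x} : Set X) := huniv ▸ Set.mem_univ a
    have hb : b ∈ ({x} : Set X) := huniv ▸ Set.mem_univ b
    rw [ha, hb]⟩
  exact hdim.not_ge (topologicalKrullDim_zero_of_discreteTopology X)

end Groth.Agent.SmallH9
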