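import Mathlib

/-!
A common finite subalgebra through which two factorisations pass.
-/

set_option autoImplicit false
universe u
open CategoryTheory AlgebraicGeometry

namespace Groth.Agent.SmallH9

theorem awayMap_bijective_of_isOpenImmersion {R S : CommRingCat.{u}} (φ : R ⟶ S)
    [IsOpenImmersion (Spec.map φ)] (r : R)
    (hr : (PrimeSpectrum.basicOpen r : (Spec R).Opens) ≤ (Spec.map φ).opensRange) :
    Function.Bijective (Localization.awayMap φ.hom r) := by
  haveI : IsIso (Spec.map φ ∣_ PrimeSpectrum.basicOpen r) := by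
    refine (isIso_morphismRestrict_iff_isIso_app _ ?_).mpr (Scheme.Hom.isIso_app _ _ hr)
    exact IsAffineOpen.Spec_basicOpen r
  have h := ((MorphismProperty.isomorphisms Scheme).arrow_mk_iso_iff
    (SpecMapRestrictBasicOpenIso φ r)).mp this
  have : IsIso (Spec.map (CommRingCat.ofHom (Localization.awayMap φ.hom r))) := h
  haveI : IsIso (Scheme.Spec.map (CommRingCat.ofHom (Localization.awayMap φ.hom r)).op) := this
  haveI := isIso_of_reflects_iso (CommRingCat.ofHom (Localization.awayMap φ.hom r)).op Scheme.Spec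
  haveI := isIso_of_op (CommRingCat.ofHom (Localization.awayMap φ.hom r))
  exact ConcreteCategory.bijective_of_isIso (C := CommRingCat)
    (CommRingCat.ofHom (Localization.awayMap φ.hom r))

theorem isIso_specMap_restrict {R S : CommRingCat.{u}} (φ : R ⟶ S) (r : R)
    (h : Function.Bijective (Localization.awayMap φ.hom r)) :
    IsIso (Spec.map φ ∣_ PrimeSpectrum.basicOpen r) := by
  haveI : IsIso (CommRingCat.ofHom (Localization.awayMap φ.hom r)) :=
    (ConcreteCategory.isIso_iff_bijective _).mpr h
  exact ((MorphismProperty.isomorphisms Scheme).arrow_mk_iso_iff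
    (SpecMapRestrictBasicOpenIso φ r)).mpr (inferInstanceAs (IsIso (Spec.map _)))

theorem isOpenImmersion_of_factor {B' C B : CommRingCat.{u}} (α : B' ⟶ C) (ι : C ⟶ B)
    (hι : Function.Injective ι.hom) (hg : IsOpenImmersion (Spec.map (α ≫ ι))) :
    IsOpenImmersion (Spec.map ι) := by
  have hcomp : Spec.map (α ≫ ι) = Spec.map ι ≫ Spec.map α := Spec.map_comp _ _
  refine IsOpenImmersion.of_forall_source_exists _ (fun a b hab => ?_) fun x => ?_
  · apply (Spec.map (α ≫ ι)).isOpenEmbedding.injective
    rw [hcomp, Scheme.Hom.comp_apply, Scheme.Hom.comp_apply, hab]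
  obtain ⟨_, ⟨r, rfl⟩, hxr, hr⟩ := PrimeSpectrum.isTopologicalBasis_basic_opens.exists_subset_of_mem_open
    (show Spec.map (α ≫ ι) x ∈ ((Spec.map (α ≫ ι)).opensRange : Set (Spec B')) from ⟨x, rfl⟩)
    (Spec.map (α ≫ ι)).opensRange.isOpen
  have hb := awayMap_bijective_of_isOpenImmersion (α ≫ ι) r hr
  have hb' : Function.Bijective (Localization.awayMap ι.hom (α.hom r)) := by
    have hinj : Function.Injective (Localization.awayMap ι.hom (α.hom r)) := by
      haveI : IsLocalization ((Submonoid.powers (α.hom r)).map ι.hom)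
          (Localization.Away (ι.hom (α.hom r))) := by
        rw [Submonoid.map_powers]; infer_instance
      exact IsLocalization.map_injective_of_injective _ _ _ hι
    refine ⟨hinj, fun y => ?_⟩
    obtain ⟨z, rfl⟩ := hb.2 y
    refine ⟨Localization.awayMap α.hom r z, ?_⟩
    refine RingHom.congr_fun (f := (Localization.awayMap ι.hom (α.hom r)).comp
      (Localization.awayMap α.hom r)) (g := Localization.awayMap (α ≫ ι).hom r) ?_ z
    apply IsLocalization.ringHom_ext (Submonoid.powers r)
    ext a
    simp [Localization.awayMap, IsLocalization.Away.map, IsLocalization.map_eq]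
  haveI := isIso_specMap_restrict ι (α.hom r) hb'
  refine ⟨_, ((Spec.map ι) ⁻¹ᵁ PrimeSpectrum.basicOpen (α.hom r)).ι, inferInstance, ?_, ?_⟩
  · rw [Scheme.Opens.opensRange_ι]
    exact hxr
  · rw [← morphismRestrict_ι]
    infer_instance

theorem exists_finite_dominating (A B B' B'' : Type u) [CommRing A] [CommRing B] [CommRing B']
    [CommRing B''] [Algebra A B] [Algebra A B'] [Algebra A B''] [Algebra B' B] [Algebra B'' B]
    [IsScalarTower A B' B] [IsScalarTower A B'' B] [Module.Finite A B'] [Module.Finite A B'']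
    (h' : IsOpenImmersion (Spec.map (CommRingCat.ofHom (algebraMap B' B)))) :
    ∃ C : Subalgebra A B, Module.Finite A C ∧ Set.range (algebraMap B' B) ⊆ (C : Set B) ∧
      Set.range (algebraMap B'' B) ⊆ (C : Set B) ∧
      IsOpenImmersion (Spec.map (CommRingCat.ofHom C.val.toRingHom)) := by
  let φ' : B' →ₐ[A] B := IsScalarTower.toAlgHom A B' B
  let φ'' : B'' →ₐ[A] B := IsScalarTower.toAlgHom A B'' B
  haveI : Module.Finite A φ'.range :=
    Module.Finite.of_surjective φ'.rangeRestrict.toLinearMap φ'.rangeRestrict_surjective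
  haveI : Module.Finite A φ''.range :=
    Module.Finite.of_surjective φ''.rangeRestrict.toLinearMap φ''.rangeRestrict_surjective
  refine ⟨φ'.range ⊔ φ''.range, Subalgebra.finite_sup _ _, ?_, ?_, ?_⟩
  · rintro _ ⟨b, rfl⟩; exact Algebra.mem_sup_left ⟨b, rfl⟩
  · rintro _ ⟨b, rfl⟩; exact Algebra.mem_sup_right ⟨b, rfl⟩
  · refine isOpenImmersion_of_factor (B' := CommRingCat.of B')
      (CommRingCat.ofHom (φ'.codRestrict (φ'.range ⊔ φ''.range)
        fun b => Algebra.mem_sup_left ⟨b, rfl⟩).toRingHom)
      (CommRingCat.ofHom (φ'.range ⊔ φ''.range).val.toRingHom) Subtype.val_injective ?_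
    convert h' using 2
    rfl

end Groth.Agent.SmallH9
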